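import Mathlib
import Groth.Agent.Lib.Lead.Curve.Dim1
import Groth.Agent.Lib.Lead.GS.Dim0
import Groth.Agent.Lib.Helper8.CK.Punct
import Groth.Agent.Lib.Helper8.LC.Vanishing
import Groth.Agent.Lib.Helper5.GG.DefAmple
import Groth.Agent.Lib.Lead.QC.SubExtRestrict

/-!
# Grothendieck vanishing for quasi-coherent modules on Noetherian schemes.
-/

set_option autoImplicit false
universe u
open CategoryTheory CategoryTheory.Limits AlgebraicGeometry TopologicalSpace Opposite Abelian

namespace Groth.Agent.H5.GV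

open Groth.Agent.LD Groth.Agent.LD.SC Groth.Agent.LD.QC

/-- every open of `Spec A` is the complement of the zero locus of an ideal. -/
lemma exists_puncturedOpen_eq (A : Type u) [CommRing A] (W : (Spec (CommRingCat.of A)).Opens) :
    ∃ I : Ideal A, W = LocCoh.puncturedOpen A I := by
  let W' : Set (PrimeSpectrum A) := W.1
  have hW' : IsOpen W' := W.2
  refine ⟨PrimeSpectrum.vanishingIdeal W'ᶜ, ?_⟩
  apply Opens.ext
  change W' = (PrimeSpectrum.zeroLocus
    ((PrimeSpectrum.vanishingIdeal W'ᶜ : Ideal A) : Set A))ᶜ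
  rw [PrimeSpectrum.zeroLocus_vanishingIdeal_eq_closure, hW'.isClosed_compl.closure_eq,
    compl_compl]

/-- cohomology over opens of a Noetherian affine scheme of dimension `≤ d` vanishes in degrees
`≥ max d 1`. -/
theorem subsingleton_ext_spec (A : Type u) [CommRing A] [IsNoetherianRing A] (d : ℕ)
    (hd : ringKrullDim A ≤ d) (N : (Spec (CommRingCat.of A)).Modules) [N.IsQuasicoherent]
    (W : (Spec (CommRingCat.of A)).Opens) (q : ℕ) (hq : d < q + 2) :
    Subsingleton (Ext (ZU (JX (Spec (CommRingCat.of A))) W) (Coh.toAb N) (q + 1)) := by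
  obtain ⟨I, rfl⟩ := exists_puncturedOpen_eq A W
  haveI : IsIso (Scheme.Modules.fromTildeΓ (R := CommRingCat.of A) N) :=
    Scheme.Modules.isIso_fromTildeΓ_of_isQuasicoherent (R := CommRingCat.of A) N
  obtain ⟨e1⟩ := HH_restrict_equiv (LocCoh.puncturedOpen A I).ι N (q + 1)
  rw [Scheme.Opens.opensRange_ι] at e1
  obtain ⟨e2⟩ := Groth.Agent.H8.CK.nonempty_HH_punctured_equiv_lc A I
    ((modulesSpecToSheaf.obj N).presheaf.obj (.op ⊤)) q
  have hz := Groth.Agent.H8.LC.grothendieck_vanishing d hd I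
    ((modulesSpecToSheaf.obj N).presheaf.obj (.op ⊤)) (q + 2) hq
  haveI : Subsingleton ((localCohomology I (q + 2)).obj
      ((modulesSpecToSheaf.obj N).presheaf.obj (.op ⊤))) := ModuleCat.subsingleton_of_isZero hz
  have h3 := e2.toEquiv.subsingleton
  have h4 : Subsingleton (Coh.HH (↑(LocCoh.puncturedOpen A I))
      (N.restrict (LocCoh.puncturedOpen A I).ι) (q + 1)) :=
    Groth.Agent.H5.GG.subsingleton_HH_of_iso
      ((Scheme.Modules.restrictFunctor (LocCoh.puncturedOpen A I).ι).mapIso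
        (asIso (Scheme.Modules.fromTildeΓ (R := CommRingCat.of A) N)).symm) (q + 1) h3
  exact e1.symm.toEquiv.subsingleton

variable {X : Scheme.{u}}

/-- cohomology over opens contained in a Noetherian affine open of dimension `≤ d`. -/
theorem subsingleton_ext_of_le_affine [IsLocallyNoetherian X] (d : ℕ) (V : X.Opens)
    (hV : IsAffineOpen V) (hd : ringKrullDim Γ(X, V) ≤ d) (M : X.Modules) [M.IsQuasicoherent]
    (W : X.Opens) (hW : W ≤ V) (q : ℕ) (hq : d < q + 2) :
    Subsingleton (Ext (ZU (JX X) W) (Coh.toAb M) (q + 1)) := by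
  haveI : IsNoetherianRing Γ(X, V) := IsLocallyNoetherian.component_noetherian ⟨V, hV⟩
  haveI : (M.restrict hV.fromSpec).IsQuasicoherent := qc_restrict hV.fromSpec M
  obtain ⟨e⟩ := ext_resAb_equiv hV.fromSpec (q + 1) (Coh.toAb M) (hV.fromSpec ⁻¹ᵁ W)
  have himg : hV.fromSpec ''ᵁ (hV.fromSpec ⁻¹ᵁ W) = W := by
    rw [Scheme.Hom.image_preimage_eq_opensRange_inf, hV.opensRange_fromSpec,
      inf_eq_right.mpr hW]
  rw [himg] at e
  have h := subsingleton_ext_spec Γ(X, V) d hd (M.restrict hV.fromSpec) (hV.fromSpec ⁻¹ᵁ W) q hq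
  haveI : Subsingleton (Ext (ZU (JX (Spec Γ(X, V))) (hV.fromSpec ⁻¹ᵁ W))
      ((resAb hV.fromSpec).obj (Coh.toAb M)) (q + 1)) := h
  exact e.symm.toEquiv.subsingleton

/-- **Grothendieck vanishing over quasi-compact opens**, degrees `≥ 2`. -/
theorem subsingleton_ext_of_dim_le [IsLocallyNoetherian X] (d : ℕ)
    (hX : ∀ V : X.Opens, IsAffineOpen V → ringKrullDim Γ(X, V) ≤ d)
    (S : X.Opens) (hS : IsCompact (S : Set X)) (M : X.Modules) [M.IsQuasicoherent] (n : ℕ)
    (hn : d < n + 2) :
    Subsingleton (Ext (ZU (JX X) S) (Coh.toAb M) (n + 2)) := by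
  refine compact_open_induction_on (P := fun S =>
    Subsingleton (Ext (ZU (JX X) S) (Coh.toAb M) (n + 2))) S hS ?_ ?_
  · exact subsingleton_of_forall_eq 0 fun ξ => ext_bot_eq_zero ξ
  · intro S hS U ih
    apply subsingleton_ext_sup
    · exact ih
    · exact subsingleton_ext_of_isAffineOpen M (n + 1) U.1 U.2
    · exact subsingleton_ext_of_le_affine d U.1 U.2 (hX _ U.2) M (S ⊓ U.1) inf_le_right n hn

lemma ringKrullDim_le_of_isAffineOpen (V : X.Opens) (hV : IsAffineOpen V) :
    ringKrullDim Γ(X, V) ≤ topologicalKrullDim X := by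
  rw [← PrimeSpectrum.topologicalKrullDim_eq_ringKrullDim]
  exact hV.fromSpec.isOpenEmbedding.isInducing.topologicalKrullDim_le

/-- **Grothendieck vanishing** for quasi-coherent modules, degrees `≥ 2`. -/
theorem subsingleton_HH_of_dim_le [IsLocallyNoetherian X] [CompactSpace X] (d : ℕ)
    (hd : topologicalKrullDim X ≤ d) (M : X.Modules) [M.IsQuasicoherent] (p : ℕ) (hp : d < p)
    (hp2 : 2 ≤ p) : Subsingleton (Coh.HH X M p) := by
  obtain ⟨n, rfl⟩ : ∃ n, p = n + 2 := ⟨p - 2, by omega⟩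
  exact subsingleton_H_of_subsingleton_ext (J := JX X) isTerminalTop (Coh.toAb M) (n + 2)
    (subsingleton_ext_of_dim_le d
      (fun V hV => (ringKrullDim_le_of_isAffineOpen V hV).trans hd) ⊤ isCompact_univ M n hp)

/-- **Grothendieck vanishing** for coherent modules on a Noetherian scheme. -/
theorem subsingleton_HH_of_isCoh [IsLocallyNoetherian X] [CompactSpace X] (d : ℕ)
    (hd : topologicalKrullDim X ≤ d) (M : X.Modules) (hM : Coh.IsCoh M) (p : ℕ) (hp : d < p) :
    Subsingleton (Coh.HH X M p) := by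
  haveI := hM.1
  by_cases hp2 : 2 ≤ p
  · exact subsingleton_HH_of_dim_le d hd M p hp hp2
  · have hp1 : p = 1 := by omega
    have hd0 : d = 0 := by omega
    subst hp1 hd0
    have hs : topologicalKrullDim (CohB1.support M) ≤ 0 :=
      (topologicalKrullDim_subspace_le X _).trans (by exact_mod_cast hd)
    exact GS.subsingleton_HH_of_support_dim M hM.2 hs 0

end Groth.Agent.H5.GV
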